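import Cfsg.Agent.Lib.HSStab.Data
import Cfsg.Agent.Lib.MinIndexPSU3.FiveModel
import Cfsg.Agent.Lib.ConwayOut.HS

/-!
# Kernel checks for the point stabiliser of the Higman–Sims group on 352 vectors
-/

set_option autoImplicit false
set_option maxRecDepth 20000

namespace Cfsg.Agent.Lib.HSStab

open Cfsg.Agent.Lib Cfsg.Agent.Lib.ConwayOut Cfsg.Agent.Lib.MinIndexPSU3
open Cfsg.Agent.Lib.SporStruct.OrbitTree (MTree incList)
open Cfsg.Agent.Lib.Computation (getW)

/-- The data of the group. -/
abbrev D : ConwayOut.Cert := HSCert.data

/-- The generators of the group. -/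
def genW (i : ℕ) : ConwayOut.Word := [D.X, D.S, D.t].getD i []

/-- The test on an orbit with prescribed products. -/
def orbitOk (t : MTree) (root : ℕ) (a b : ℤ) (k : ℕ) : Bool :=
  t.check (fun i n => appW (genW i) n) [0, 1, 2] root && incList t.keys && Nat.beq t.keys.length k &&
    t.keys.all fun n => decide (dotZ D.V n = a) && decide (dotZ D.T n = b)

theorem gen_fix : ((List.range 3).all fun i => D.fixW (genW i)) = true := by decide +kernel

theorem orbit352_ok : orbitOk tree352 x0P 16 8 352 = true := by decide +kernel

theorem orbit100a_ok : orbitOk tree100a x1P 24 0 100 = true := by decide +kernel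

theorem orbit100b_ok : orbitOk tree100b x2P 8 16 100 = true := by decide +kernel

/-- The words of the stabiliser generators. -/
def stabW (k : ℕ) : ConwayOut.Word := stabGens.getD k []

theorem stab_fix : ((List.range 2).all fun k =>
    D.fixW (stabW k) && Nat.beq (appW (stabW k) x0P) x0P) = true := by decide +kernel

theorem orbit252_ok :
    tree252.check (fun i n => appW (stabW i) n) [0, 1] y0P = true := by decide +kernel

theorem pairs_mem : (pairs.all fun p =>
    tree252.keys.any (Nat.beq p.1) && tree252.keys.any (Nat.beq p.2)) = true := by decide +kernel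

/-- The index of the image of a pair. -/
def image (k i : ℕ) : ℕ := getW 7 (stab_gens.getD k 0) i

theorem stab_gens_ok : (stab_gens.all (Computation.okPerm 126 7) &&
    Nat.beq stab_gens.length 2 && Nat.beq pairs.length 126) = true := by decide +kernel

theorem pairs_permuted : ((List.range 2).all fun k => (List.range 126).all fun i =>
    let p := pairs.getD i (0, 0)
    let q := pairs.getD (image k i) (0, 0)
    Computation.forceNat (appW (stabW k) p.1) fun a => Computation.forceNat (appW (stabW k) p.2) fun b =>
      (Nat.beq a q.1 && Nat.beq b q.2) || (Nat.beq a q.2 && Nat.beq b q.1)) = true := by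
  decide +kernel

theorem pairs_distinct : ((List.range 126).all fun i => (List.range 126).all fun j =>
    Nat.beq i j || (!Nat.beq (pairs.getD i (0, 0)).1 (pairs.getD j (0, 0)).1 &&
      !Nat.beq (pairs.getD i (0, 0)).1 (pairs.getD j (0, 0)).2)) = true := by decide +kernel

theorem stab_order : (Computation.permRep 126 7 (by decide)).order stab_chain = 126000 := by
  decide +kernel

theorem mats_ok : ∀ k < 2, IsSU5 (mats.getD k idP) := by decide +kernel

/-- The point of an index. -/
def point (i : ℕ) : V5 := points.getD i (0, 0, 0)

/-- Two points with linearly independent representatives. -/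
def indep (u v : V5) : Bool :=
  !Nat.beq (mulP u.1 v.2.1) (mulP u.2.1 v.1) || !Nat.beq (mulP u.1 v.2.2) (mulP u.2.2 v.1) ||
    !Nat.beq (mulP u.2.1 v.2.2) (mulP u.2.2 v.2.1)

theorem points_indep : ((List.range 126).all fun i => (List.range 126).all fun j =>
    Nat.beq i j || indep (point i) (point j)) = true := by decide +kernel

theorem points_range : ((List.range 126).all fun i => Nat.blt (point i).1 25 &&
    Nat.blt (point i).2.1 25 && Nat.blt (point i).2.2 25) = true := by decide +kernel

/-- The scalar of an image. -/
def scalar (k i : ℕ) : ℕ := (scalars.getD k []).getD i 0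

theorem points_permuted : ∀ k < 2, ∀ i < 126, scalar k i ≠ 0 ∧ scalar k i < 25 ∧ image k i < 126 ∧
    mvP (mats.getD k idP) (point i) = scP (scalar k i) (point (image k i)) := by decide +kernel

end Cfsg.Agent.Lib.HSStab
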