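import Cfsg.Agent.Lib.HSStab.Checks
import Cfsg.Agent.Lib.SporStruct.LeechCounts
import Cfsg.Agent.Lib.PermIso.Basic

/-!
# The 352 vectors of the Higman–Sims group and the stabiliser of one of them
-/

set_option autoImplicit false

namespace Cfsg.Agent.Lib.HSStab

open Cfsg Cfsg.Agent.Lib Cfsg.Agent.Lib.Leech Cfsg.Agent.Lib.SporStruct
open Cfsg.Agent.Lib.ConwayOut (eltW okW appW pk pk_injective eltW_app dotZ dotZ_pk)
open Cfsg.Agent.Lib.SporStruct.OrbitTree (MTree incList_nodup)
open scoped Pointwise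

/-- The setting. -/
noncomputable abbrev C : ConwayOut.Ctx D := ConwayOut.HS.ctx

/-- The coordinates of a packed vector. -/
def coords (n : ℕ) (p : GolayPt) : ℤ := (Computation.getW 5 n (Golay.idx p) : ℤ) - 16

theorem coords_mem {n : ℕ} (h1 : ∀ p, coords n p % 2 = 0)
    (h2 : res 2 (coords n) = Golay.setOfMask (ConwayOut.resMask 2 n))
    (h3 : Golay.inCode (ConwayOut.resMask 2 n) = true) (h4 : (∑ p, coords n p) % 8 = 0) :
    coords n ∈ leechLattice :=
  evenVec_mem ⟨h1, by rw [IsCode, h2]; exact Golay.setOfMask_mem_supports h3, h4⟩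

/-- The root of the 352 vectors. -/
def x0 : leechLattice := ⟨coords x0P,
  coords_mem (by decide +kernel) (by decide +kernel) (by decide +kernel) (by decide +kernel)⟩

/-- The root of the first 100 vectors. -/
def x1 : leechLattice := ⟨coords x1P,
  coords_mem (by decide +kernel) (by decide +kernel) (by decide +kernel) (by decide +kernel)⟩

/-- The root of the second 100 vectors. -/
def x2 : leechLattice := (Spor.leechV + Spor.leechU') - x1

/-- The root of the 252 vectors. -/
def y0 : leechLattice := ⟨coords y0P,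
  coords_mem (by decide +kernel) (by decide +kernel) (by decide +kernel) (by decide +kernel)⟩

theorem x0_facts : sqNorm (vec x0) = 32 ∧ pk x0 = x0P := by
  constructor <;> decide +kernel

theorem x1_facts : sqNorm (vec x1) = 32 ∧ pk x1 = x1P := by
  constructor <;> decide +kernel

theorem x2_facts : sqNorm (vec x2) = 32 ∧ pk x2 = x2P := by
  constructor <;> decide +kernel

theorem y0_facts : sqNorm (vec y0) = 32 ∧ pk y0 = y0P := by
  constructor <;> decide +kernel

/-- The group. -/
noncomputable abbrev H0 : Subgroup Co0 := C.H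

/-- The point stabiliser. -/
noncomputable abbrev Hx : Subgroup Co0 := C.H ⊓ MulAction.stabilizer Co0 x0

theorem gen_fix' {i : ℕ} (hi : i < 3) : D.fixW (genW i) = true :=
  List.all_eq_true.1 gen_fix i (List.mem_range.2 hi)

theorem le64 {v : leechLattice} (h : sqNorm (vec v) = 32) : sqNorm (vec v) ≤ 64 := by omega

theorem eltW_app32 {w : ConwayOut.Word} (h : okW w = true) (g : Co0) {v : leechLattice}
    (hv : sqNorm (vec v) = 32) : pk ((eltW w * g) • v) = appW w (pk (g • v)) := by
  rw [mul_smul, eltW_app h]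
  rw [norm_smul']
  exact le64 hv

/-- Keys of an orbit are images of the root. -/
theorem orbit_spec {t : MTree} {root : ℕ} {a b : ℤ} {k : ℕ} (h : orbitOk t root a b k = true)
    {x : leechLattice} (hx : sqNorm (vec x) = 32) (hxr : pk x = root) :
    t.keys.Nodup ∧ t.keys.length = k ∧ ∀ n ∈ t.keys, ∃ g ∈ H0, pk (g • x) = n ∧
      dotInt (vec C.v) (vec (g • x)) = a ∧ dotInt (vec C.u) (vec (g • x)) = b := by
  simp only [orbitOk, Bool.and_eq_true, List.all_eq_true, decide_eq_true_eq, Nat.beq_eq] at h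
  obtain ⟨⟨⟨hc, hi⟩, hl⟩, hd⟩ := h
  refine ⟨incList_nodup hi, hl, fun n hn => ?_⟩
  have key : ∃ g ∈ H0, pk (g • x) = n := by
    refine MTree.check_sound hc (fun n => ∃ g ∈ H0, pk (g • x) = n)
      ⟨1, one_mem _, by rw [one_smul, hxr]⟩ ?_ n hn
    rintro i hi m ⟨g, hg, rfl⟩
    have hi3 : i < 3 := by simp at hi; omega
    exact ⟨eltW (genW i) * g, mul_mem (C.eltW_mem (gen_fix' hi3)) hg,
      eltW_app32 (ConwayOut.Ctx.okW_of_fixW (gen_fix' hi3)) g hx⟩
  obtain ⟨g, hg, e⟩ := key
  obtain ⟨d1, d2⟩ := hd n hn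
  have h64 : sqNorm (vec (g • x)) ≤ 64 := by rw [norm_smul']; exact le64 hx
  rw [← e, ← C.encv, dotZ_pk C.nv h64] at d1
  rw [← e, ← C.encu, dotZ_pk C.nu h64] at d2
  exact ⟨g, hg, e, d1, d2⟩

/-- The set of 352 vectors. -/
def members : Set leechLattice :=
  {x | sqNorm (vec x) = 32 ∧ dotInt (vec Spor.leechV) (vec x) = 16 ∧
    dotInt (vec (-(Spor.leechV + Spor.leechU'))) (vec x) = -24}

theorem dot_W (x : leechLattice) : dotInt (vec (-(Spor.leechV + Spor.leechU'))) (vec x) =
    -(dotInt (vec Spor.leechV) (vec x) + dotInt (vec Spor.leechU') (vec x)) := by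
  rw [LeechPairs.dot_comm]
  show dotInt (vec x) (-(vec Spor.leechV + vec Spor.leechU')) = _
  rw [LeechPairs.dot_neg_right, LeechPairs.dot_add_right, LeechPairs.dot_comm (vec x),
    LeechPairs.dot_comm (vec x)]

theorem norm_W : sqNorm (vec (-(Spor.leechV + Spor.leechU'))) = 48 := by decide +kernel

theorem members_eq_orbit : members = (fun g : H0 => (g : Co0) • x0) '' Set.univ ∧
    members.ncard = 352 := by
  classical
  obtain ⟨n0, l0, k0⟩ := orbit_spec orbit352_ok x0_facts.1 x0_facts.2
  obtain ⟨n1, l1, k1⟩ := orbit_spec orbit100a_ok x1_facts.1 x1_facts.2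
  obtain ⟨n2, l2, k2⟩ := orbit_spec orbit100b_ok x2_facts.1 x2_facts.2
  set W := -(Spor.leechV + Spor.leechU') with hW
  set A := (LeechCounts.shell 32).filter fun x => dotInt (vec W) (vec x) = -24 with hA
  have hAc : A.card = 552 := (LeechCounts.count48 norm_W).1
  have memA : ∀ {x : leechLattice} {g : Co0} {a b : ℤ}, sqNorm (vec x) = 32 →
      dotInt (vec C.v) (vec (g • x)) = a → dotInt (vec C.u) (vec (g • x)) = b → a + b = 24 →
      g • x ∈ A := by
    intro x g a b hx ha hb hab
    rw [hA, Finset.mem_filter, LeechCounts.mem_shell, dot_W, norm_smul', hx]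
    refine ⟨rfl, ?_⟩
    show -(dotInt (vec C.v) (vec (g • x)) + dotInt (vec C.u) (vec (g • x))) = -24
    rw [ha, hb, hab]
  set K : Finset ℕ := (tree352.keys ++ tree100a.keys ++ tree100b.keys).toFinset with hK
  have hdot : ∀ {x y : leechLattice} {g h : Co0} {a b : ℤ}, sqNorm (vec x) = 32 →
      sqNorm (vec y) = 32 → pk (g • x) = pk (h • y) → dotInt (vec C.v) (vec (g • x)) = a →
      dotInt (vec C.v) (vec (h • y)) = b → a = b := by
    intro x y g h a b hx hy e ha hb
    rw [← ha, ← hb, pk_injective (by rw [norm_smul']; exact le64 hx) (by rw [norm_smul']; exact le64 hy) e]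
  have hKc : K.card = 552 := by
    rw [hK, List.toFinset_card_of_nodup, List.length_append, List.length_append, l0, l1, l2]
    refine List.nodup_append.2 ⟨List.nodup_append.2 ⟨n0, n1, fun a ha b hb e => ?_⟩, n2,
      fun a ha b hb e => ?_⟩
    · obtain ⟨g, -, e1, d1, -⟩ := k0 a ha
      obtain ⟨g', -, e2, d2, -⟩ := k1 b hb
      exact absurd (hdot x0_facts.1 x1_facts.1 (e1.trans (e.trans e2.symm)) d1 d2) (by norm_num)
    · obtain ⟨g', -, e2, d2, -⟩ := k2 b hb
      rcases List.mem_append.1 ha with ha | ha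
      · obtain ⟨g, -, e1, d1, -⟩ := k0 a ha
        exact absurd (hdot x0_facts.1 x2_facts.1 (e1.trans (e.trans e2.symm)) d1 d2) (by norm_num)
      · obtain ⟨g, -, e1, d1, -⟩ := k1 a ha
        exact absurd (hdot x1_facts.1 x2_facts.1 (e1.trans (e.trans e2.symm)) d1 d2) (by norm_num)
  have hinj : Set.InjOn pk (A : Set leechLattice) := fun a ha b hb e =>
    pk_injective (le64 (LeechCounts.mem_shell.1 (Finset.mem_filter.1 ha).1))
      (le64 (LeechCounts.mem_shell.1 (Finset.mem_filter.1 hb).1)) e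
  have hKA : K = A.image pk := by
    refine Finset.eq_of_subset_of_card_le (fun n hn => ?_) ?_
    · rw [hK, List.mem_toFinset, List.mem_append, List.mem_append] at hn
      rcases hn with (hn | hn) | hn
      · obtain ⟨g, -, e, d1, d2⟩ := k0 n hn
        exact Finset.mem_image.2 ⟨_, memA x0_facts.1 d1 d2 (by norm_num), e⟩
      · obtain ⟨g, -, e, d1, d2⟩ := k1 n hn
        exact Finset.mem_image.2 ⟨_, memA x1_facts.1 d1 d2 (by norm_num), e⟩
      · obtain ⟨g, -, e, d1, d2⟩ := k2 n hn
        exact Finset.mem_image.2 ⟨_, memA x2_facts.1 d1 d2 (by norm_num), e⟩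
    · rw [Finset.card_image_of_injOn hinj, hAc, hKc]
  have hsub : members ⊆ (fun g : H0 => (g : Co0) • x0) '' Set.univ := by
    rintro x ⟨h1, h2, h3⟩
    have hxA : x ∈ A := by
      rw [hA, Finset.mem_filter, LeechCounts.mem_shell]; exact ⟨by exact_mod_cast h1, h3⟩
    have hxK : pk x ∈ K := hKA ▸ Finset.mem_image_of_mem pk hxA
    rw [hK, List.mem_toFinset, List.mem_append, List.mem_append] at hxK
    have hx64 := le64 h1
    rcases hxK with (hn | hn) | hn
    · obtain ⟨g, hg, e, -, -⟩ := k0 _ hn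
      exact ⟨⟨g, hg⟩, trivial, pk_injective (by rw [norm_smul']; exact le64 x0_facts.1) hx64 e⟩
    · obtain ⟨g, -, e, d1, -⟩ := k1 _ hn
      rw [pk_injective (by rw [norm_smul']; exact le64 x1_facts.1) hx64 e] at d1
      exact absurd (h2.symm.trans d1) (by norm_num)
    · obtain ⟨g, -, e, d1, -⟩ := k2 _ hn
      rw [pk_injective (by rw [norm_smul']; exact le64 x2_facts.1) hx64 e] at d1
      exact absurd (h2.symm.trans d1) (by norm_num)
  have hmem0 : x0 ∈ members := ⟨x0_facts.1, by decide +kernel, by decide +kernel⟩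
  have hinv : ∀ g ∈ H0, g • Spor.leechV = Spor.leechV ∧
      g • (-(Spor.leechV + Spor.leechU')) = -(Spor.leechV + Spor.leechU') := fun g hg =>
    ⟨hg.1, by rw [smul_neg', smul_add', show g • Spor.leechV = Spor.leechV from hg.1,
      show g • Spor.leechU' = Spor.leechU' from hg.2]⟩
  have heq : members = (fun g : H0 => (g : Co0) • x0) '' Set.univ := by
    refine hsub.antisymm ?_
    rintro _ ⟨g, -, rfl⟩
    obtain ⟨a1, a2⟩ := hinv g g.2
    refine ⟨by rw [norm_smul']; exact hmem0.1, ?_, ?_⟩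
    · conv_lhs => rw [← a1, dot_smul]
      exact hmem0.2.1
    · conv_lhs => rw [← a2, dot_smul]
      exact hmem0.2.2
  refine ⟨heq, ?_⟩
  have himg : pk '' members = (tree352.keys.toFinset : Set ℕ) := by
    ext n
    constructor
    · rintro ⟨x, hx, rfl⟩
      have hxA : x ∈ A := by
        rw [hA, Finset.mem_filter, LeechCounts.mem_shell]; exact ⟨by exact_mod_cast hx.1, hx.2.2⟩
      have hxK : pk x ∈ K := hKA ▸ Finset.mem_image_of_mem pk hxA
      rw [hK, List.mem_toFinset, List.mem_append, List.mem_append] at hxK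
      rcases hxK with (hn | hn) | hn
      · exact List.mem_toFinset.2 hn
      · obtain ⟨g, -, e, d1, -⟩ := k1 _ hn
        rw [pk_injective (by rw [norm_smul']; exact le64 x1_facts.1) (le64 hx.1) e] at d1
        exact absurd (hx.2.1.symm.trans d1) (by norm_num)
      · obtain ⟨g, -, e, d1, -⟩ := k2 _ hn
        rw [pk_injective (by rw [norm_smul']; exact le64 x2_facts.1) (le64 hx.1) e] at d1
        exact absurd (hx.2.1.symm.trans d1) (by norm_num)
    · intro hn
      obtain ⟨g, hg, e, -, -⟩ := k0 n (List.mem_toFinset.1 hn)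
      exact ⟨g • x0, heq ▸ ⟨⟨g, hg⟩, trivial, rfl⟩, e⟩
  rw [← Set.InjOn.ncard_image (f := pk) (fun a ha b hb e => pk_injective (le64 ha.1) (le64 hb.1) e),
    himg, Set.ncard_coe_finset, List.toFinset_card_of_nodup n0, l0]

theorem card_Hx : Nat.card Hx = 126000 := by
  obtain ⟨heq, hcard⟩ := members_eq_orbit
  have h : Nat.card H0 = 44352000 := ConwayOut.HS.card_H
  have : Finite H0 := Nat.finite_of_card_ne_zero (by rw [h]; norm_num)
  have hs := (MulAction.stabilizer H0 x0).index_mul_card
  rw [MulAction.index_stabilizer, h] at hs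
  have ho : MulAction.orbit H0 x0 = members := by
    rw [heq, Set.image_univ]; rfl
  have hst : MulAction.stabilizer H0 x0 = Hx.subgroupOf H0 := by
    ext g
    exact ⟨fun hg => ⟨g.2, hg⟩, fun hg => hg.2⟩
  rw [ho, hcard, hst, Nat.card_congr (Subgroup.subgroupOfEquivOfLe inf_le_left).toEquiv] at hs
  have h2 : 352 * Nat.card Hx = 44352000 := hs
  omega

/-- A member of the 252 vectors with a given key. -/
theorem exists_key {n : ℕ} (hn : n ∈ tree252.keys) :
    ∃ z : leechLattice, sqNorm (vec z) = 32 ∧ pk z = n := by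
  refine MTree.check_sound orbit252_ok (fun n => ∃ z : leechLattice, sqNorm (vec z) = 32 ∧ pk z = n)
    ⟨y0, y0_facts⟩ ?_ n hn
  rintro i hi m ⟨z, hz, rfl⟩
  have hi2 : i < 2 := by simp at hi; omega
  have h := List.all_eq_true.1 stab_fix i (List.mem_range.2 hi2)
  simp only [Bool.and_eq_true] at h
  exact ⟨eltW (stabW i) • z, by rw [norm_smul']; exact hz,
    eltW_app (ConwayOut.Ctx.okW_of_fixW h.1) z (le64 hz)⟩

/-- The vector with a key. -/
noncomputable def ofKey (n : ℕ) : leechLattice :=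
  if h : n ∈ tree252.keys then Classical.choose (exists_key h) else 0

theorem ofKey_spec {n : ℕ} (h : n ∈ tree252.keys) :
    sqNorm (vec (ofKey n)) = 32 ∧ pk (ofKey n) = n := by
  rw [ofKey, dif_pos h]; exact Classical.choose_spec (exists_key h)

/-- The pair of an index. -/
noncomputable def pairSet (i : Fin 126) : Set leechLattice :=
  {ofKey (pairs.getD i (0, 0)).1, ofKey (pairs.getD i (0, 0)).2}

theorem pair_mem {i : ℕ} (hi : i < 126) :
    (pairs.getD i (0, 0)).1 ∈ tree252.keys ∧ (pairs.getD i (0, 0)).2 ∈ tree252.keys := by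
  have hl := stab_gens_ok
  simp only [Bool.and_eq_true, Nat.beq_eq] at hl
  have hmem : pairs.getD i (0, 0) ∈ pairs := by
    rw [List.getD_eq_getElem _ _ (hl.2.symm ▸ hi)]; exact List.getElem_mem _
  have h := List.all_eq_true.1 pairs_mem _ hmem
  simp only [Bool.and_eq_true, List.any_eq_true, Nat.beq_eq] at h
  obtain ⟨⟨a, ha, e⟩, ⟨b, hb, e'⟩⟩ := h
  exact ⟨e ▸ ha, e' ▸ hb⟩

theorem pairSet_injective : Function.Injective pairSet := by
  intro i j hij
  by_contra hne
  have h := List.all_eq_true.1 (List.all_eq_true.1 pairs_distinct i (List.mem_range.2 i.2)) j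
    (List.mem_range.2 j.2)
  simp only [Bool.or_eq_true, Bool.and_eq_true, Bool.not_eq_true', Bool.eq_false_iff, ne_eq,
    Nat.beq_eq] at h
  rcases h with h | ⟨h1, h2⟩
  · exact hne (Fin.ext h)
  · have hi := ofKey_spec (pair_mem i.2).1
    have : ofKey (pairs.getD i (0, 0)).1 ∈ pairSet j := hij ▸ Set.mem_insert _ _
    rcases this with e | e
    · exact h1 (hi.2.symm.trans ((congrArg pk e).trans (ofKey_spec (pair_mem j.2).1).2))
    · exact h2 (hi.2.symm.trans ((congrArg pk e).trans (ofKey_spec (pair_mem j.2).2).2))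

/-- The stabiliser induces the certified permutations. -/
theorem stab_iso (S : Set (Equiv.Perm (Fin 126)))
    (hS : ∀ σ ∈ S, ∃ k < 2, ∀ i : Fin 126, (σ i : ℕ) = image k i)
    (hcard : Nat.card (Subgroup.closure S) = 126000) :
    Nonempty (Hx ≃* Subgroup.closure S) := by
  have : Finite Hx := Nat.finite_of_card_ne_zero (by rw [card_Hx]; norm_num)
  refine PermIso.exists_iso_of_card_eq (MulAction.toPermHom Hx (Set leechLattice))
    pairSet_injective S (fun σ hσ => ?_) (card_Hx.trans hcard.symm)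
  obtain ⟨k, hk, hkσ⟩ := hS σ hσ
  have h := List.all_eq_true.1 stab_fix k (List.mem_range.2 hk)
  simp only [Bool.and_eq_true, Nat.beq_eq] at h
  have hok := ConwayOut.Ctx.okW_of_fixW h.1
  have hm : eltW (stabW k) ∈ Hx := ⟨C.eltW_mem h.1, by
    refine pk_injective (by rw [norm_smul']; exact le64 x0_facts.1) (le64 x0_facts.1) ?_
    rw [eltW_app hok x0 (le64 x0_facts.1), x0_facts.2, h.2]⟩
  refine ⟨⟨_, hm⟩, fun i => ?_⟩
  show (fun v => eltW (stabW k) • v) '' pairSet i = pairSet (σ i)
  have hp := List.all_eq_true.1 (List.all_eq_true.1 pairs_permuted k (List.mem_range.2 hk)) i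
    (List.mem_range.2 i.2)
  simp only [Computation.forceNat_eq, Bool.or_eq_true, Bool.and_eq_true, Nat.beq_eq, ← hkσ i] at hp
  obtain ⟨s1, s2⟩ := pair_mem i.2
  obtain ⟨t1, t2⟩ := pair_mem (σ i).2
  have key : ∀ {a b : ℕ}, a ∈ tree252.keys → b ∈ tree252.keys → appW (stabW k) a = b →
      eltW (stabW k) • ofKey a = ofKey b := fun {a b} ha hb e =>
    pk_injective (by rw [norm_smul']; exact le64 (ofKey_spec ha).1) (le64 (ofKey_spec hb).1)
      (by rw [eltW_app hok _ (le64 (ofKey_spec ha).1), (ofKey_spec ha).2, (ofKey_spec hb).2, e])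
  rw [pairSet, pairSet, Set.image_pair]
  rcases hp with ⟨p1, p2⟩ | ⟨p1, p2⟩
  · rw [key s1 t1 p1, key s2 t2 p2]
  · rw [key s1 t2 p1, key s2 t1 p2, Set.pair_comm]

end Cfsg.Agent.Lib.HSStab
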