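import Cfsg.Agent.Lib.HSStab.Checks
import Cfsg.Agent.Lib.MinIndexPSU3.Five
import Cfsg.Agent.Lib.PermIso.Basic

/-!
# `PSU(3, 5)` as the group of the certified permutations of 126 points
-/

set_option autoImplicit false

namespace Cfsg.Agent.Lib.HSStab

open Cfsg Cfsg.Agent.Lib Cfsg.Agent.Lib.MinIndexPSU3
open scoped Matrix

/-- The certified permutations. -/
noncomputable def genSet : Set (Equiv.Perm (Fin 126)) :=
  (Computation.permRep 126 7 (by decide)).val '' {s | s ∈ stab_gens}

theorem card_genSet : Nat.card (Subgroup.closure genSet) = 126000 := by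
  rw [genSet, Computation.Rep.closure_eq_grp _ stab_check,
    Computation.Rep.card_grp _ (Computation.Rep.checkChain_of_checkClosure _ stab_check), stab_order]

/-- A member of the set of permutations comes from an index. -/
theorem genSet_cases {σ : Equiv.Perm (Fin 126)} (hσ : σ ∈ genSet) :
    ∃ k < 2, ∀ i : Fin 126, (σ i : ℕ) = image k i := by
  obtain ⟨s, hs, rfl⟩ := hσ
  have h := stab_gens_ok
  simp only [Bool.and_eq_true, List.all_eq_true, Nat.beq_eq] at h
  obtain ⟨k, hk, hks⟩ := List.getElem_of_mem hs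
  refine ⟨k, h.1.2 ▸ hk, fun i => ?_⟩
  show (Computation.decodeP 126 7 s i : ℕ) = _
  rw [Computation.decodeP_apply (h.1.1 s hs), image, List.getD_eq_getElem _ _ hk, hks]

variable {F : Type*} [Field F] [Fintype F]

/-- The action on sets of vectors. -/
noncomputable def setHom : SU 3 F 5 →* Equiv.Perm (Set (Fin 3 → F)) where
  toFun g :=
    { toFun := fun A => (fun v => g.1.1 *ᵥ v) '' A
      invFun := fun A => (fun v => g⁻¹.1.1 *ᵥ v) '' A
      left_inv := fun A => by
        show (fun v => g⁻¹.1.1 *ᵥ v) '' ((fun v => g.1.1 *ᵥ v) '' A) = A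
        rw [Set.image_image]
        simp only [Unitary.SU_inv_mulVec, Set.image_id']
      right_inv := fun A => by
        have h : ∀ v, g.1.1 *ᵥ (g⁻¹.1.1 *ᵥ v) = v := fun v => by
          have := Unitary.SU_inv_mulVec g⁻¹ v
          rwa [inv_inv] at this
        show (fun v => g.1.1 *ᵥ v) '' ((fun v => g⁻¹.1.1 *ᵥ v) '' A) = A
        rw [Set.image_image]
        simp only [h, Set.image_id'] }
  map_one' := by ext A; simp
  map_mul' a b := by
    ext A
    simp [Set.image_image, Unitary.SU_mul_mulVec]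

/-- The span of a point. -/
def ray (r : F) (i : Fin 126) : Set (Fin 3 → F) := {v | ∃ c : F, v = c • decV r (point i)}

theorem ray_image (r : F) (g : SU 3 F 5) {i j : Fin 126} {l : F} (hl : l ≠ 0)
    (h : g.1.1 *ᵥ decV r (point i) = l • decV r (point j)) :
    setHom g (ray r i) = ray r j := by
  ext v
  simp only [setHom, MonoidHom.coe_mk, OneHom.coe_mk, Equiv.coe_fn_mk, Set.mem_image, ray,
    Set.mem_ofPred_eq]
  constructor
  · rintro ⟨_, ⟨c, rfl⟩, rfl⟩
    exact ⟨c * l, by rw [Matrix.mulVec_smul, h, smul_smul]⟩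
  · rintro ⟨c, rfl⟩
    refine ⟨_, ⟨c * l⁻¹, rfl⟩, ?_⟩
    rw [Matrix.mulVec_smul, h, smul_smul, mul_assoc, inv_mul_cancel₀ hl, mul_one]

theorem ray_injective (hF : Fintype.card F = 5 ^ 2) {r : F} (hr : r * r = 2) :
    Function.Injective (ray r) := by
  intro i j hij
  by_contra hne
  have hi : decV r (point i) ∈ ray r j := hij ▸ ⟨1, (one_smul F _).symm⟩
  obtain ⟨c, hc⟩ := hi
  have h := List.all_eq_true.1 (List.all_eq_true.1 points_indep i (List.mem_range.2 i.2)) j
    (List.mem_range.2 j.2)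
  have hlt : ∀ a b, mulP a b < 25 := fun a b => by unfold mulP encP; omega
  have h5 := five_eq_zero hF
  simp only [Bool.or_eq_true, Nat.beq_eq, indep, Bool.not_eq_true', Bool.eq_false_iff, ne_eq] at h
  have e0 := congrFun hc 0
  have e1 := congrFun hc 1
  have e2 := congrFun hc 2
  simp [decV] at e0 e1 e2
  rcases h with h | (h | h) | h
  · exact hne (Fin.ext h)
  all_goals
    refine h (dec_inj hF hr (hlt _ _) (hlt _ _) ?_)
    rw [dec_mulP r h5 hr, dec_mulP r h5 hr]
  · rw [e0, e1]; ring
  · rw [e0, e2]; ring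
  · rw [e1, e2]; ring

theorem card_SU35 (hF : Fintype.card F = 5 ^ 2) : Nat.card (SU 3 F 5) = 378000 := by
  have h := Unitary.card_SU (n := 3) hF (by norm_num)
  rw [Unitary.card_GU hF] at h
  simp only [Finset.prod_range_succ, Finset.prod_range_zero] at h
  norm_num [Nat.even_iff] at h
  omega

/-- `PSU(3, 5)` is the group of the certified permutations. -/
theorem psu_iso (hF : Fintype.card F = 25) : Nonempty (PSU 3 F 5 ≃* Subgroup.closure genSet) := by
  have hF' : Fintype.card F = 5 ^ 2 := by rw [hF]; norm_num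
  obtain ⟨r, hr, hr5⟩ := exists_sqrt_two hF'
  have h5 := five_eq_zero hF'
  refine PermIso.exists_iso (setHom (F := F)) (ray_injective hF' hr) (Subgroup.center (SU 3 F 5))
    (fun z hz i => ?_) genSet (fun σ hσ => ?_) ?_
  · obtain ⟨l, hl⟩ := (Unitary.mem_center_SU_iff hF' (by norm_num) z).1 hz
    refine ray_image r z (l := l) (fun h0 => ?_) (hl _)
    have h1 := Unitary.SU_inv_mulVec z (Pi.single (0 : Fin 3) (1 : F))
    rw [hl, h0, zero_smul, Matrix.mulVec_zero] at h1
    simpa using congrFun h1 0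
  · obtain ⟨k, hk, hkσ⟩ := genSet_cases hσ
    obtain ⟨g, hg⟩ := exists_SU_of_isSU5 hF' hr hr5 (mats_ok k hk)
    refine ⟨g, fun i => ?_⟩
    obtain ⟨hc0, hc, -, hmv⟩ := points_permuted k hk i i.2
    refine ray_image r g (l := dec r (scalar k i)) (fun h0 => hc0 ?_) ?_
    · exact dec_inj hF' hr hc (by norm_num) (h0.trans (dec_zero r).symm)
    · rw [hg, ← decV_mvP r h5 hr, hmv, dec_scP r h5 hr, hkσ]
  · rw [Unitary.card_center_SU hF' (by norm_num), card_genSet, card_SU35 hF']
    rfl

end Cfsg.Agent.Lib.HSStab
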