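import Cfsg.Agent.Lib.HSStab.Leech
import Cfsg.Agent.Lib.HSStab.Unitary
import Cfsg.Agent.Lib.Leech.McLHS

/-!
# The Higman–Sims group on 352 vectors
-/

set_option autoImplicit false

namespace Cfsg.Agent.Lib.HSStab

open Cfsg Cfsg.Agent.Lib Cfsg.Agent.Lib.Leech Cfsg.Agent.Lib.SporStruct

/-- The stabiliser of three points is conjugate to the stabiliser of their images. -/
def conj3 {G α : Type*} [Group G] [MulAction G α] (k : G) {a b c a' b' c' : α}
    (ha : k • a = a') (hb : k • b = b') (hc : k • c = c') :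
    ↥(MulAction.stabilizer G a' ⊓ MulAction.stabilizer G b' ⊓ MulAction.stabilizer G c') ≃*
      ↥(MulAction.stabilizer G a ⊓ MulAction.stabilizer G b ⊓ MulAction.stabilizer G c) where
  toFun s := ⟨k⁻¹ * s.1 * k, by
    obtain ⟨⟨h1, h2⟩, h3⟩ := s.2
    refine ⟨⟨?_, ?_⟩, ?_⟩
    · show (k⁻¹ * s.1 * k) • a = a
      rw [mul_smul, mul_smul, ha, show s.1 • a' = a' from h1, ← ha, inv_smul_smul]
    · show (k⁻¹ * s.1 * k) • b = b
      rw [mul_smul, mul_smul, hb, show s.1 • b' = b' from h2, ← hb, inv_smul_smul]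
    · show (k⁻¹ * s.1 * k) • c = c
      rw [mul_smul, mul_smul, hc, show s.1 • c' = c' from h3, ← hc, inv_smul_smul]⟩
  invFun s := ⟨k * s.1 * k⁻¹, by
    obtain ⟨⟨h1, h2⟩, h3⟩ := s.2
    refine ⟨⟨?_, ?_⟩, ?_⟩
    · show (k * s.1 * k⁻¹) • a' = a'
      rw [mul_smul, mul_smul, ← ha, inv_smul_smul, show s.1 • a = a from h1]
    · show (k * s.1 * k⁻¹) • b' = b'
      rw [mul_smul, mul_smul, ← hb, inv_smul_smul, show s.1 • b = b from h2]
    · show (k * s.1 * k⁻¹) • c' = c'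
      rw [mul_smul, mul_smul, ← hc, inv_smul_smul, show s.1 • c = c from h3]⟩
  left_inv s := by ext1; simp [mul_assoc]
  right_inv s := by ext1; simp [mul_assoc]
  map_mul' s t := by ext1; simp [mul_assoc]

theorem norm_V : sqNorm (vec Spor.leechV) = 48 := by decide +kernel

theorem dot_V_W : dotInt (vec Spor.leechV) (vec (-(Spor.leechV + Spor.leechU'))) = -32 := by
  decide +kernel

theorem stab3_eq : MulAction.stabilizer Co0 Spor.leechV ⊓
    MulAction.stabilizer Co0 (-(Spor.leechV + Spor.leechU')) ⊓ MulAction.stabilizer Co0 x0 = Hx := by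
  ext g
  show ((g • Spor.leechV = Spor.leechV ∧
      g • (-(Spor.leechV + Spor.leechU')) = -(Spor.leechV + Spor.leechU')) ∧ g • x0 = x0) ↔
    ((g • Spor.leechV = Spor.leechV ∧ g • Spor.leechU' = Spor.leechU') ∧ g • x0 = x0)
  rw [smul_neg', smul_add', neg_inj]
  refine and_congr_left fun _ => ?_
  constructor
  · rintro ⟨h1, h2⟩
    rw [h1] at h2
    exact ⟨h1, add_left_cancel h2⟩
  · rintro ⟨h1, h2⟩
    exact ⟨h1, by rw [h1, h2]⟩

/-- The four assertions. -/
theorem hs_352 (v w : leechLattice) (hv : sqNorm (vec v) = 48) (hw : sqNorm (vec w) = 48)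
    (hvw : dotInt (vec v) (vec w) = -32) (F : Type) [Field F] [Fintype F]
    (hF : Fintype.card F = 25) :
    let S := {x : leechLattice | sqNorm (vec x) = 32 ∧ dotInt (vec v) (vec x) = 16 ∧
      dotInt (vec w) (vec x) = -24}
    S.ncard = 352 ∧ (∀ x ∈ S, -w - x ∈ S) ∧
      (∀ x ∈ S, ∀ x' ∈ S, ∃ g : Co0, g • v = v ∧ g • w = w ∧ g • x = x') ∧
      ∀ x ∈ S, Nonempty (↥(MulAction.stabilizer Co0 v ⊓ MulAction.stabilizer Co0 w ⊓
        MulAction.stabilizer Co0 x) ≃* PSU 3 F 5) := by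
  intro S
  obtain ⟨g, hg1, hg2⟩ := transitive48_neg32 norm_V norm_W dot_V_W hv hw hvw
  have key : S = (fun y => g • y) '' members := by
    ext x
    constructor
    · intro hx
      refine ⟨g⁻¹ • x, ⟨?_, ?_, ?_⟩, smul_inv_smul g x⟩
      · rw [norm_smul']; exact hx.1
      · rw [← dot_smul g, hg1, smul_inv_smul]; exact hx.2.1
      · rw [← dot_smul g, hg2, smul_inv_smul]; exact hx.2.2
    · rintro ⟨y, hy, rfl⟩
      refine ⟨?_, ?_, ?_⟩
      · rw [norm_smul']; exact hy.1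
      · rw [← hg1, dot_smul]; exact hy.2.1
      · rw [← hg2, dot_smul]; exact hy.2.2
  obtain ⟨horb, hcard⟩ := members_eq_orbit
  refine ⟨?_, ?_, ?_, ?_⟩
  · rw [key, Set.ncard_image_of_injective _ (MulAction.injective g), hcard]
  · rintro x ⟨h1, h2, h3⟩
    refine ⟨?_, ?_, ?_⟩
    · rw [show -w - x = -(w + x) by abel]
      simp only [vec, AddSubgroup.coe_neg, AddSubgroup.coe_add] at h1 h3 hw ⊢
      rw [sqNorm_neg, sqNorm_add]
      omega
    · simp only [vec, AddSubgroup.coe_sub, AddSubgroup.coe_neg] at h2 hvw ⊢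
      rw [LeechPairs.dot_sub_right, LeechPairs.dot_neg_right]
      omega
    · simp only [vec, AddSubgroup.coe_sub, AddSubgroup.coe_neg] at h3 hw ⊢
      rw [LeechPairs.dot_sub_right, LeechPairs.dot_neg_right, LeechPairs.dot_self]
      omega
  · rw [key, horb]
    rintro _ ⟨_, ⟨a, -, rfl⟩, rfl⟩ _ ⟨_, ⟨b, -, rfl⟩, rfl⟩
    obtain ⟨a1, a2⟩ : (a : Co0) • Spor.leechV = Spor.leechV ∧ (a : Co0) • Spor.leechU' = Spor.leechU' :=
      a.2
    obtain ⟨b1, b2⟩ : (b : Co0) • Spor.leechV = Spor.leechV ∧ (b : Co0) • Spor.leechU' = Spor.leechU' :=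
      b.2
    have hi : ∀ {y : leechLattice}, (a : Co0) • y = y → (a : Co0)⁻¹ • y = y := fun h =>
      inv_smul_eq_iff.2 h.symm
    refine ⟨g * b * (a : Co0)⁻¹ * g⁻¹, ?_, ?_, ?_⟩
    · conv_lhs => rw [← hg1]
      rw [mul_smul, mul_smul, mul_smul, inv_smul_smul, hi a1, b1, hg1]
    · have aW : (a : Co0) • (-(Spor.leechV + Spor.leechU')) = -(Spor.leechV + Spor.leechU') := by
        rw [smul_neg', smul_add', a1, a2]
      have bW : (b : Co0) • (-(Spor.leechV + Spor.leechU')) = -(Spor.leechV + Spor.leechU') := by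
        rw [smul_neg', smul_add', b1, b2]
      conv_lhs => rw [← hg2]
      rw [mul_smul, mul_smul, mul_smul, inv_smul_smul, hi aW, bW, hg2]
    · simp only [mul_smul, inv_smul_smul]
  · rw [key, horb]
    rintro _ ⟨_, ⟨a, -, rfl⟩, rfl⟩
    obtain ⟨a1, a2⟩ : (a : Co0) • Spor.leechV = Spor.leechV ∧ (a : Co0) • Spor.leechU' = Spor.leechU' :=
      a.2
    have e1 : (g * a) • Spor.leechV = v := by rw [mul_smul, a1, hg1]
    have e2 : (g * a) • (-(Spor.leechV + Spor.leechU')) = w := by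
      rw [mul_smul, smul_neg' (a : Co0), smul_add', a1, a2, hg2]
    obtain ⟨i1⟩ := stab_iso genSet (fun σ hσ => genSet_cases hσ) card_genSet
    obtain ⟨i2⟩ := psu_iso hF
    exact ⟨(conj3 (g * (a : Co0)) e1 e2 (mul_smul _ _ _)).trans
      ((MulEquiv.subgroupCongr stab3_eq).trans (i1.trans i2.symm))⟩

end Cfsg.Agent.Lib.HSStab
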